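import Cfsg.Agent.Lib.helper3.G24TC.A.Chk0
import Cfsg.Agent.Lib.helper3.G24TC.A.Chk1
import Cfsg.Agent.Lib.helper3.G24TC.A.Chk2
import Cfsg.Agent.Lib.helper3.G24TC.A.Chk3
import Cfsg.Agent.Lib.helper3.G24TC.A.Chk4
import Cfsg.Agent.Lib.helper3.G24TC.A.Chk5
import Cfsg.Agent.Lib.helper3.G24TC.A.Chk6
import Cfsg.Agent.Lib.helper3.G24TC.A.Chk7
import Cfsg.Agent.Lib.helper3.G24TC.A.Chk8
import Cfsg.Agent.Lib.helper3.G24TC.A.Chk9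
import Cfsg.Agent.Lib.helper3.G24TC.A.Chk10
import Cfsg.Agent.Lib.helper3.G24TC.A.Fin

/-! the chunks of the certificate (generated, helper3) -/

set_option autoImplicit false
set_option maxRecDepth 100000
set_option linter.unusedSimpArgs false

namespace Cfsg.Agent.Lib.Helper3.G24TC.A

open Cfsg.Agent.Lib.Helper12.TC Cfsg.Agent.Lib.Helper12.TCG Cfsg.Agent.Lib.Helper3.TCUpper

/-- the chunks of the certificate -/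
noncomputable def chunks : List Chunk :=
  [⟨28486, rw0, 251, 255, rot0, recs0⟩,
   ⟨28997, rw1, 251, 255, rot1, recs1⟩,
   ⟨30199, rw2, 251, 255, rot2, recs2⟩,
   ⟨30760, rw3, 251, 255, rot3, recs3⟩,
   ⟨31529, rw4, 251, 255, rot4, recs4⟩,
   ⟨32343, rw5, 251, 255, rot5, recs5⟩,
   ⟨32882, rw6, 251, 255, rot6, recs6⟩,
   ⟨33465, rw7, 251, 255, rot7, recs7⟩,
   ⟨34098, rw8, 251, 255, rot8, recs8⟩,
   ⟨34619, rw9, 251, 255, rot9, recs9⟩,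
   ⟨35195, rw10, 251, 255, rot10, recs10⟩,
   ⟨36061, rw11, 251, 255, rot11, recs11⟩,
   ⟨36631, rw12, 251, 255, rot12, recs12⟩,
   ⟨37749, rw13, 251, 255, rot13, recs13⟩,
   ⟨38549, rw14, 251, 255, rot14, recs14⟩,
   ⟨39084, rw15, 251, 255, rot15, recs15⟩,
   ⟨39641, rw16, 251, 255, rot16, recs16⟩,
   ⟨40214, rw17, 251, 255, rot17, recs17⟩,
   ⟨40768, rw18, 251, 255, rot18, recs18⟩,
   ⟨41326, rw19, 251, 255, rot19, recs19⟩,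
   ⟨41859, rw20, 251, 255, rot20, recs20⟩,
   ⟨42389, rw21, 251, 255, rot21, recs21⟩,
   ⟨42848, rw22, 251, 255, rot22, recs22⟩,
   ⟨43390, rw23, 251, 255, rot23, recs23⟩,
   ⟨43913, rw24, 251, 255, rot24, recs24⟩,
   ⟨44349, rw25, 220, 224, rot25, recs25⟩,
   ⟨47349, rw26, 219, 223, rot26, recs26⟩,
   ⟨50349, rw27, 251, 255, rot27, recs27⟩,
   ⟨53114, rw28, 251, 255, rot28, recs28⟩,
   ⟨55736, rw29, 32, 36, rot29, recs29⟩,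
   ⟨58736, rw30, 13, 17, rot30, recs30⟩,
   ⟨61736, rw31, 251, 255, rot31, recs31⟩,
   ⟨63046, rw32, 100, 104, rot32, recs32⟩,
   ⟨66046, rw33, 245, 249, rot33, recs33⟩,
   ⟨69046, rw34, 203, 207, rot34, recs34⟩,
   ⟨72046, rw35, 13, 17, rot35, recs35⟩,
   ⟨75046, rw36, 13, 17, rot36, recs36⟩,
   ⟨78046, rw37, 13, 17, rot37, recs37⟩,
   ⟨81046, rw38, 13, 17, rot38, recs38⟩,
   ⟨84046, rw39, 87, 91, rot39, recs39⟩,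
   ⟨87046, rw40, 143, 147, rot40, recs40⟩]

theorem hcover : coverK cD cK (chunks.map fun c => (c.start, c.recs)) = true := by
  unfold chunks
  simp only [List.map_cons, List.map_nil]
  decide +kernel

theorem hchunks : ∀ c ∈ chunks, relCheckK c.RW c.R0 c.R baseL c.rotW sw = true ∧
    chunkG cIV F c.RW c.R0 c.recs c.start = true := by
  unfold chunks
  simp only [List.forall_mem_cons, List.not_mem_nil, false_imp_iff, implies_true, and_true]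
  exact ⟨⟨hrel0, hchk0⟩, ⟨hrel1, hchk1⟩, ⟨hrel2, hchk2⟩, ⟨hrel3, hchk3⟩, ⟨hrel4, hchk4⟩, ⟨hrel5, hchk5⟩, ⟨hrel6, hchk6⟩, ⟨hrel7, hchk7⟩, ⟨hrel8, hchk8⟩, ⟨hrel9, hchk9⟩, ⟨hrel10, hchk10⟩, ⟨hrel11, hchk11⟩, ⟨hrel12, hchk12⟩, ⟨hrel13, hchk13⟩, ⟨hrel14, hchk14⟩, ⟨hrel15, hchk15⟩, ⟨hrel16, hchk16⟩, ⟨hrel17, hchk17⟩, ⟨hrel18, hchk18⟩, ⟨hrel19, hchk19⟩, ⟨hrel20, hchk20⟩, ⟨hrel21, hchk21⟩, ⟨hrel22, hchk22⟩, ⟨hrel23, hchk23⟩, ⟨hrel24, hchk24⟩, ⟨hrel25, hchk25⟩, ⟨hrel26, hchk26⟩, ⟨hrel27, hchk27⟩, ⟨hrel28, hchk28⟩, ⟨hrel29, hchk29⟩, ⟨hrel30, hchk30⟩, ⟨hrel31, hchk31⟩, ⟨hrel32, hchk32⟩, ⟨hrel33, hchk33⟩, ⟨hrel34, hchk34⟩, ⟨hrel35, hchk35⟩, ⟨hrel36, hchk36⟩, ⟨hrel37, hchk37⟩, ⟨hrel38, hchk38⟩, ⟨hrel39, hchk39⟩, ⟨hrel40, hchk40⟩⟩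

end Cfsg.Agent.Lib.Helper3.G24TC.A
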